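import Groth.Agent.CTopVan.Spectral
import Groth.Agent.SiteBase.Top

/-! Sections of abelian sheaves near quasi-compact subsets. -/

set_option autoImplicit false
set_option linter.unusedSectionVars false
set_option linter.style.haveILetI false

universe u

open CategoryTheory CategoryTheory.Limits Opposite TopologicalSpace Topology Filter

namespace Groth.Agent.CTopNbd

variable {X Y : TopCat.{u}}

/-- Restriction of sections. -/
noncomputable abbrev rs (M : CohTop.Ab X) {U V : Opens X} (h : V ≤ U) :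
    M.obj.obj (op U) →+ M.obj.obj (op V) :=
  (M.obj.map (homOfLE h).op).hom

/-- A morphism of sheaves on sections. -/
noncomputable abbrev sa {M N : CohTop.Ab X} (φ : M ⟶ N) (U : Opens X) :
    M.obj.obj (op U) →+ N.obj.obj (op U) :=
  (φ.hom.app (op U)).hom

lemma rs_rs (M : CohTop.Ab X) {U V W : Opens X} (h : V ≤ U) (h' : W ≤ V) (x : M.obj.obj (op U)) :
    rs M h' (rs M h x) = rs M (h'.trans h) x := by
  show (M.obj.map (homOfLE h).op ≫ M.obj.map (homOfLE h').op).hom x = _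
  rw [← M.obj.map_comp]
  rfl

lemma rs_self (M : CohTop.Ab X) {U : Opens X} (h : U ≤ U) (x : M.obj.obj (op U)) : rs M h x = x := by
  show (M.obj.map (homOfLE h).op).hom x = x
  rw [show (homOfLE h).op = 𝟙 (op U) from rfl, M.obj.map_id]
  rfl

lemma sa_rs {M N : CohTop.Ab X} (φ : M ⟶ N) {U V : Opens X} (h : V ≤ U) (x : M.obj.obj (op U)) :
    sa φ V (rs M h x) = rs N h (sa φ U x) :=
  ConcreteCategory.congr_hom (φ.hom.naturality (homOfLE h).op) x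

theorem glue₂ (M : CohTop.Ab X) {U V : Opens X} (a : M.obj.obj (op U)) (b : M.obj.obj (op V))
    (h : rs M (inf_le_left : U ⊓ V ≤ U) a = rs M (inf_le_right : U ⊓ V ≤ V) b) :
    ∃ c : M.obj.obj (op (U ⊔ V)),
      rs M (le_sup_left : U ≤ U ⊔ V) c = a ∧ rs M (le_sup_right : V ≤ U ⊔ V) c = b := by
  obtain ⟨c, hc, -⟩ := TopCat.Sheaf.existsUnique_gluing' M (fun t : Bool => cond t U V) (U ⊔ V)
    (fun t => homOfLE (match t with | true => le_sup_left | false => le_sup_right))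
    (sup_le (le_iSup (fun t : Bool => cond t U V) true) (le_iSup (fun t : Bool => cond t U V) false))
    (fun t => match t with | true => a | false => b) (by
      intro i j
      cases i <;> cases j
      · rfl
      · have h' := congrArg (rs M (le_inf inf_le_right inf_le_left : V ⊓ U ≤ U ⊓ V)) h
        rw [rs_rs, rs_rs] at h'
        exact h'.symm
      · exact h
      · rfl)
  exact ⟨c, hc true, hc false⟩

theorem ext₂ (M : CohTop.Ab X) {U V : Opens X} (x y : M.obj.obj (op (U ⊔ V)))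
    (hU : rs M (le_sup_left : U ≤ U ⊔ V) x = rs M le_sup_left y)
    (hV : rs M (le_sup_right : V ≤ U ⊔ V) x = rs M le_sup_right y) : x = y :=
  TopCat.Sheaf.eq_of_locally_eq₂ M (homOfLE le_sup_left) (homOfLE le_sup_right) le_rfl x y hU hV

/-- A family of subsets of the source, along which sections can be glued. -/
structure Ctx {A : Type u} [TopologicalSpace A] (i : A → X) (𝒞 : Set (Set A)) : Prop where
  isCompact : ∀ C ∈ 𝒞, IsCompact C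
  empty : ∅ ∈ 𝒞
  union : ∀ C ∈ 𝒞, ∀ D ∈ 𝒞, C ∪ D ∈ 𝒞
  inter : ∀ C ∈ 𝒞, ∀ D ∈ 𝒞, C ∩ D ∈ 𝒞
  nhd : ∀ C ∈ 𝒞, ∀ a ∈ C, ∀ O : Opens X, i a ∈ O → ∃ D ∈ 𝒞, D ∈ 𝓝[C] a ∧ Set.MapsTo i D O
  sep : ∀ C ∈ 𝒞, ∀ D ∈ 𝒞, ∀ U V E : Opens X, Set.MapsTo i C U → Set.MapsTo i D V →
    Set.MapsTo i (C ∩ D) E →
      ∃ U' V' : Opens X, U' ≤ U ∧ V' ≤ V ∧ Set.MapsTo i C U' ∧ Set.MapsTo i D V' ∧ U' ⊓ V' ≤ E

variable {A : Type u}

def LocSurj (i : A → X) {M N : CohTop.Ab X} (φ : M ⟶ N) : Prop :=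
  ∀ (a : A) (U : Opens X), i a ∈ U → ∀ n : N.obj.obj (op U),
    ∃ (V : Opens X) (h : V ≤ U), i a ∈ V ∧ ∃ m, sa φ V m = rs N h n

def LocInj (i : A → X) {M N : CohTop.Ab X} (φ : M ⟶ N) : Prop :=
  ∀ (a : A) (U : Opens X), i a ∈ U → ∀ d : M.obj.obj (op U), sa φ U d = 0 →
    ∃ (V : Opens X) (h : V ≤ U), i a ∈ V ∧ rs M h d = 0

def KerExt (i : A → X) (𝒞 : Set (Set A)) {M N : CohTop.Ab X} (φ : M ⟶ N) : Prop :=
  ∀ C ∈ 𝒞, ∀ U : Opens X, Set.MapsTo i C U → ∀ d : M.obj.obj (op U), sa φ U d = 0 →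
    ∃ h : M.obj.obj (op ⊤), sa φ ⊤ h = 0 ∧
      ∃ (V : Opens X) (hV : V ≤ U), Set.MapsTo i C V ∧ rs M le_top h = rs M hV d

/-- A softness property of sections along the family `𝒞`. -/
def Soft (i : A → X) (𝒞 : Set (Set A)) (M : CohTop.Ab X) : Prop :=
  ∀ C ∈ 𝒞, ∀ U : Opens X, Set.MapsTo i C U → ∀ g : M.obj.obj (op U),
    ∃ h : M.obj.obj (op ⊤), ∃ (V : Opens X) (hV : V ≤ U), Set.MapsTo i C V ∧ rs M le_top h = rs M hV g

theorem LocInj.zero_near {i : A → X} {M N : CohTop.Ab X} {φ : M ⟶ N} (hφ : LocInj i φ) {U : Opens X}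
    (d : M.obj.obj (op U)) (hd : sa φ U d = 0) :
    ∃ (E : Opens X) (hE : E ≤ U), (∀ a, i a ∈ U → i a ∈ E) ∧ rs M hE d = 0 := by
  let ι := {V : Opens X // ∃ h : V ≤ U, rs M h d = 0}
  refine ⟨⨆ V : ι, V.1, iSup_le fun V => V.2.1, fun a ha => ?_, ?_⟩
  · obtain ⟨V, hV, haV, h0⟩ := hφ a U ha d hd
    exact Opens.mem_iSup.2 ⟨⟨V, hV, h0⟩, haV⟩
  · refine TopCat.Sheaf.eq_of_locally_eq' M (fun V : ι => V.1) _
      (fun V => homOfLE (le_iSup (fun V : ι => V.1) V)) le_rfl _ _ fun V => ?_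
    exact ((rs_rs M _ _ d).trans V.2.2).trans (map_zero (rs M _)).symm

theorem LocInj.kerExt {i : A → X} {M N : CohTop.Ab X} {φ : M ⟶ N} (hφ : LocInj i φ) (𝒞 : Set (Set A)) :
    KerExt i 𝒞 φ := by
  intro C _ U hCU d hd
  obtain ⟨E, hE, hmem, h0⟩ := hφ.zero_near d hd
  exact ⟨0, map_zero _, E, hE, fun a ha => hmem a (hCU ha), by rw [map_zero, h0]⟩

variable [TopologicalSpace A] {i : A → X} {𝒞 : Set (Set A)}

theorem lift_near (hc : Ctx i 𝒞) {M N : CohTop.Ab X} (φ : M ⟶ N) (hs : LocSurj i φ) (hk : KerExt i 𝒞 φ)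
    {C : Set A} (hC : C ∈ 𝒞) {U₀ : Opens X} (hCU : Set.MapsTo i C U₀) (n : N.obj.obj (op U₀)) :
    ∃ (U : Opens X) (h : U ≤ U₀), Set.MapsTo i C U ∧ ∃ m, sa φ U m = rs N h n := by
  let p : Set A → Prop := fun s => ∃ D ∈ 𝒞, s ⊆ D ∧
    ∃ (U : Opens X) (h : U ≤ U₀), Set.MapsTo i D U ∧ ∃ m, sa φ U m = rs N h n
  suffices p C by
    obtain ⟨D, -, hCD, U, h, hDU, m⟩ := this
    exact ⟨U, h, hDU.mono_left hCD, m⟩
  refine (hc.isCompact C hC).induction_on (p := p) ?_ ?_ ?_ ?_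
  · refine ⟨∅, hc.empty, le_rfl, ⊥, bot_le, Set.mapsTo_empty _ _, 0, ?_⟩
    rw [map_zero]
    exact (TopCat.Sheaf.eq_of_locally_eq' N (ι := PEmpty.{1}) (fun e => e.elim) ⊥ (fun e => e.elim) bot_le _ _
      (fun e => e.elim)).symm
  · rintro s t hst ⟨D, hD, htD, h⟩
    exact ⟨D, hD, hst.trans htD, h⟩
  · rintro s t ⟨D₁, hD₁, hs₁, U₁, h₁, hDU₁, m₁, e₁⟩ ⟨D₂, hD₂, hs₂, U₂, h₂, hDU₂, m₂, e₂⟩
    let d := rs M (inf_le_left : U₁ ⊓ U₂ ≤ U₁) m₁ - rs M (inf_le_right : U₁ ⊓ U₂ ≤ U₂) m₂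
    have hd : sa φ (U₁ ⊓ U₂) d = 0 := by
      rw [map_sub, sa_rs, sa_rs, e₁, e₂, rs_rs, rs_rs, sub_self]
    obtain ⟨h, hh, E, hE, hDE, heq⟩ := hk _ (hc.inter D₁ hD₁ D₂ hD₂) (U₁ ⊓ U₂)
      (fun a ha => ⟨hDU₁ ha.1, hDU₂ ha.2⟩) d hd
    obtain ⟨V₁, V₂, hV₁, hV₂, hD₁V, hD₂V, hVE⟩ := hc.sep D₁ hD₁ D₂ hD₂ U₁ U₂ E hDU₁ hDU₂ hDE
    let m₁' := rs M hV₁ m₁
    let m₂' := rs M hV₂ m₂ + rs M (le_top : V₂ ≤ ⊤) h
    obtain ⟨c, hc₁, hc₂⟩ := glue₂ M m₁' m₂' (by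
      have key := congrArg (rs M hVE) heq
      rw [rs_rs, rs_rs, map_sub, rs_rs, rs_rs] at key
      show rs M _ (rs M hV₁ m₁) = rs M _ (rs M hV₂ m₂ + rs M le_top h)
      rw [map_add, rs_rs, rs_rs, rs_rs, key]
      abel)
    refine ⟨D₁ ∪ D₂, hc.union D₁ hD₁ D₂ hD₂, Set.union_subset_union hs₁ hs₂, V₁ ⊔ V₂,
      sup_le (hV₁.trans h₁) (hV₂.trans h₂), fun a ha => ha.elim (fun h => Or.inl (hD₁V h))
        (fun h => Or.inr (hD₂V h)), c, ext₂ N _ _ ?_ ?_⟩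
    · rw [← sa_rs, hc₁, sa_rs, e₁, rs_rs, rs_rs]
    · rw [← sa_rs, hc₂, map_add, sa_rs, sa_rs, hh, map_zero, add_zero, e₂, rs_rs, rs_rs]
  · intro a ha
    obtain ⟨V, hV, haV, hm⟩ := hs a U₀ (hCU ha) n
    obtain ⟨D, hD, hDn, hDV⟩ := hc.nhd C hC a ha V haV
    exact ⟨D, hDn, D, hD, le_rfl, V, hV, hDV, hm⟩

theorem soft_of_isFlasque (i : A → X) (𝒞 : Set (Set A)) (M : CohTop.Ab X) [hM : TopCat.Sheaf.IsFlasque M] :
    Soft i 𝒞 M := by
  intro C _ U hCU g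
  obtain ⟨h, hh⟩ := (AddCommGrpCat.epi_iff_surjective _).1
    (hM.epi (homOfLE (le_top : U ≤ ⊤)).op) g
  exact ⟨h, U, le_rfl, hCU, by rw [rs_self]; exact hh⟩

omit [TopologicalSpace A] in
theorem exists_preimage_of_shortExact {S : ShortComplex (CohTop.Ab X)} (hS : S.ShortExact) {U : Opens X}
    (d : S.X₂.obj.obj (op U)) (hd : sa S.g U d = 0) : ∃ e, sa S.f U e = d := by
  haveI := hS.mono_f
  exact (ShortComplex.ab_exact_iff _).1 (hS.exact.map_of_mono_of_preservesKernel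
    (sheafToPresheaf _ AddCommGrpCat.{u} ⋙ (evaluation _ AddCommGrpCat.{u}).obj (op U))
    inferInstance inferInstance) d hd

theorem kerExt_of_soft {S : ShortComplex (CohTop.Ab X)} (hS : S.ShortExact) (h₁ : Soft i 𝒞 S.X₁) :
    KerExt i 𝒞 S.g := by
  intro C hC U hCU d hd
  obtain ⟨e, rfl⟩ := exists_preimage_of_shortExact hS d hd
  obtain ⟨h, V, hV, hCV, heq⟩ := h₁ C hC U hCU e
  refine ⟨sa S.f ⊤ h, ?_, V, hV, hCV, ?_⟩
  · exact ConcreteCategory.congr_hom (congrArg (fun q : S.X₁ ⟶ S.X₃ => q.hom.app (op ⊤)) S.zero) h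
  · rw [← sa_rs, heq, sa_rs]

omit [TopologicalSpace A] in
theorem locSurj_of_epi (i : A → X) {M N : CohTop.Ab X} (φ : M ⟶ N) (hφ : Epi φ) : LocSurj i φ := by
  intro a U ha n
  obtain ⟨V, hV, m, haV, e⟩ := CTopVan.local_lift φ hφ n (i a) ha
  exact ⟨V, hV, haV, m, e⟩

theorem soft_quotient (hc : Ctx i 𝒞) {S : ShortComplex (CohTop.Ab X)} (hS : S.ShortExact)
    (h₁ : Soft i 𝒞 S.X₁) [hJ : TopCat.Sheaf.IsFlasque S.X₂] : Soft i 𝒞 S.X₃ := by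
  intro C hC U hCU g
  obtain ⟨V, hV, hCV, m, hm⟩ := lift_near hc S.g (locSurj_of_epi i _ hS.epi_g) (kerExt_of_soft hS h₁) hC hCU g
  obtain ⟨mT, hmT⟩ := (AddCommGrpCat.epi_iff_surjective _).1 (hJ.epi (homOfLE (le_top : V ≤ ⊤)).op) m
  refine ⟨sa S.g ⊤ mT, V, hV, hCV, ?_⟩
  rw [← sa_rs, ← hm]
  exact congrArg (sa S.g V) hmT

/-- Soft sheaves are acyclic. -/
theorem subsingleton_H_of_soft {Z : TopCat.{u}} {𝒟 : Set (Set Z)} (hc : Ctx (X := Z) id 𝒟)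
    (hu : Set.univ ∈ 𝒟) {M : CohTop.Ab Z} (hM : Soft (X := Z) id 𝒟 M) (n : ℕ) :
    Subsingleton (CohTop.H M (n + 1)) := by
  rw [CTopVan.subsingleton_H_iff]
  refine SiteBase.subsingleton_HU_of_class (J := Opens.grothendieckTopology Z)
    (fun G => Soft (X := Z) id 𝒟 G) (fun U => U = ⊤) ?_ ?_ hM (U := (⊤ : Opens Z)) rfl n
  · intro E hE h₁ h₂
    haveI := SiteBase.isFlasque_of_injective E.X₂
    exact soft_quotient hc hE h₁
  · rintro E hE h₁ h₂ U rfl g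
    obtain ⟨V, hV, hCV, m, hm⟩ := lift_near hc E.g (locSurj_of_epi id _ hE.epi_g) (kerExt_of_soft hE h₁) hu
      (U₀ := ⊤) (fun a _ => trivial) g
    obtain rfl : V = ⊤ := eq_top_iff.2 fun a _ => hCV (Set.mem_univ a)
    exact ⟨m, hm.trans (rs_self _ _ _)⟩

omit [TopologicalSpace A] in
theorem locSurj_of_isIso_stalk (i : A → X) {M N : CohTop.Ab X} (φ : M ⟶ N)
    (h : ∀ a, IsIso ((ClosedEmb.stalkF (i a)).map φ)) : LocSurj i φ := by
  intro a U ha n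
  haveI := h a
  obtain ⟨s, hs⟩ := (ConcreteCategory.bijective_of_isIso
    ((ClosedEmb.stalkF (i a)).map φ)).2 (TopCat.Presheaf.germ N.obj U (i a) ha n)
  obtain ⟨W, hW, m, rfl⟩ := TopCat.Presheaf.exists_germ_eq M.obj s
  have hg : TopCat.Presheaf.germ N.obj W (i a) hW (sa φ W m) = TopCat.Presheaf.germ N.obj U (i a) ha n :=
    (TopCat.Presheaf.stalkFunctor_map_germ_apply W (i a) hW φ.hom m).symm.trans hs
  obtain ⟨V, hV, iW, iU, e⟩ := TopCat.Presheaf.germ_eq N.obj (i a) hW ha _ _ hg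
  exact ⟨V, iU.le, hV, rs M iW.le m, (sa_rs φ _ m).trans e⟩

omit [TopologicalSpace A] in
theorem locInj_of_isIso_stalk (i : A → X) {M N : CohTop.Ab X} (φ : M ⟶ N)
    (h : ∀ a, IsIso ((ClosedEmb.stalkF (i a)).map φ)) : LocInj i φ := by
  intro a U ha d hd
  have hg : TopCat.Presheaf.germ M.obj U (i a) ha d = TopCat.Presheaf.germ M.obj U (i a) ha 0 := by
    haveI := h a
    refine (ConcreteCategory.bijective_of_isIso ((ClosedEmb.stalkF (i a)).map φ)).1 ?_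
    refine (TopCat.Presheaf.stalkFunctor_map_germ_apply U (i a) ha φ.hom d).trans ?_
    refine Eq.trans ?_ (TopCat.Presheaf.stalkFunctor_map_germ_apply U (i a) ha φ.hom 0).symm
    exact congrArg _ (hd.trans (map_zero _).symm)
  obtain ⟨V, hV, i1, i2, e⟩ := TopCat.Presheaf.germ_eq M.obj (i a) ha ha _ _ hg
  exact ⟨V, i1.le, hV, e.trans (map_zero (rs M i2.le))⟩

end Groth.Agent.CTopNbd
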