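import Groth.Agent.CTopVan.Basic
import Groth.Agent.SiteBase.Rpush
import Groth.Agent.SiteBase.OpenRestr
import Groth.Agent.SiteBase.DerivedPrecompAcyclic

/-! Higher direct images commute with restriction to an open of the base. -/

set_option autoImplicit false
set_option linter.style.haveILetI false

universe u

open CategoryTheory CategoryTheory.Limits Opposite TopologicalSpace Topology

namespace Groth.Agent.CTopNbd

variable {X Y : TopCat.{u}} (f : X ⟶ Y) (V : Opens Y)

/-- The restriction of `f` over `V`. -/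
noncomputable def resMap : TopCat.of ((Opens.map f).obj V) ⟶ TopCat.of V :=
  TopCat.ofHom ⟨(V : Set Y).restrictPreimage f, f.hom.continuous.restrictPreimage⟩

theorem preimage_image_eq (W : Opens (TopCat.of V)) :
    (Opens.map f).obj (V.isOpenEmbedding.isOpenMap.functor.obj W) =
      ((Opens.map f).obj V).isOpenEmbedding.isOpenMap.functor.obj ((Opens.map (resMap f V)).obj W) := by
  refine Opens.ext (Set.ext fun x => ⟨?_, ?_⟩)
  · rintro ⟨w, hw, hwx⟩
    have hxV : f x ∈ V := by
      rw [← hwx]
      exact w.2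
    exact ⟨⟨x, hxV⟩, (show (⟨f x, hxV⟩ : V) ∈ W by
      have : w = ⟨f x, hxV⟩ := Subtype.ext hwx
      rwa [← this]), rfl⟩
  · rintro ⟨z, hz, rfl⟩
    exact ⟨(V : Set Y).restrictPreimage f z, hz, rfl⟩

/-- `(f_* F)|_V ≅ g_*(F|_{f⁻¹V})`. -/
noncomputable def restrPushIso :
    CohTop.push f ⋙ CohTop.restrFunctor V ≅
      CohTop.restrFunctor ((Opens.map f).obj V) ⋙ CohTop.push (resMap f V) :=
  NatIso.ofComponents (fun F => (fullyFaithfulSheafToPresheaf _ _).preimageIso
    (NatIso.ofComponents (fun W => F.obj.mapIso (eqToIso (preimage_image_eq f V W.unop).symm).op)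
      (fun {W W'} k => by
        show F.obj.map _ ≫ F.obj.map _ = F.obj.map _ ≫ F.obj.map _
        rw [← F.obj.map_comp, ← F.obj.map_comp]
        congr 1)))
    (fun {F G} φ => by
      apply CategoryTheory.Sheaf.hom_ext
      refine NatTrans.ext (funext fun W => ?_)
      exact (φ.hom.naturality _).symm)

theorem nonempty_rightDerived_comp_push {A B : TopCat.{u}} (g : A ⟶ B) (R : CohTop.Ab X ⥤ CohTop.Ab A)
    [R.Additive] [PreservesFiniteLimits R] [PreservesFiniteColimits R]
    (hR : ∀ Q : CohTop.Ab X, Injective Q → TopCat.Sheaf.IsFlasque (R.obj Q)) (p : ℕ) :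
    Nonempty ((R ⋙ CohTop.push g).rightDerived p ≅ R ⋙ CohTop.Rpush g p) :=
  haveI := CTopVan.push_preservesFiniteLimits g
  SiteBase.nonempty_rightDerived_precomp_of_acyclic R (CohTop.push g) (fun Q hQ n =>
    haveI := hR Q hQ
    SiteBase.isZero_rpush_of_subsingleton (Opens.grothendieckTopology A) (Opens.grothendieckTopology B)
      (Opens.map g) (n + 1) _ fun W => SiteBase.subsingleton_HU_of_isFlasque (R.obj Q) _ n) p

theorem additive_comp_push {A B : TopCat.{u}} (g : A ⟶ B) (R : CohTop.Ab X ⥤ CohTop.Ab A) [R.Additive] :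
    (R ⋙ CohTop.push g).Additive := inferInstance

theorem nonempty_rpush_restr (F : CohTop.Ab X) (p : ℕ) :
    Nonempty (CohTop.restr ((CohTop.Rpush f p).obj F) V ≅
      (CohTop.Rpush (resMap f V) p).obj (CohTop.restr F ((Opens.map f).obj V))) := by
  haveI : ∀ {Z : TopCat.{u}} (U : Opens Z), PreservesFiniteColimits (CohTop.restrFunctor U) := fun {Z} U => by
    have H : IsOpenEmbedding (TopCat.ofHom ⟨Subtype.val, continuous_subtype_val⟩ : TopCat.of U ⟶ Z) :=
      U.isOpenEmbedding
    haveI : H.isOpenMap.functor.IsContinuous (Opens.grothendieckTopology (TopCat.of U))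
      (Opens.grothendieckTopology Z) := H.functor_isContinuous
    haveI := SiteBase.isCocontinuous_openFunctor H
    haveI : (CohTop.restrFunctor U).IsLeftAdjoint :=
      (H.isOpenMap.functor.sheafAdjunctionCocontinuous AddCommGrpCat.{u}
        (Opens.grothendieckTopology (TopCat.of U)) (Opens.grothendieckTopology Z)).isLeftAdjoint
    infer_instance
  haveI : ∀ {Z : TopCat.{u}} (U : Opens Z), PreservesFiniteLimits (CohTop.restrFunctor U) := fun {Z} U => by
    have H : IsOpenEmbedding (TopCat.ofHom ⟨Subtype.val, continuous_subtype_val⟩ : TopCat.of U ⟶ Z) :=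
      U.isOpenEmbedding
    haveI : H.isOpenMap.functor.IsContinuous (Opens.grothendieckTopology (TopCat.of U))
      (Opens.grothendieckTopology Z) := H.functor_isContinuous
    haveI : (CohTop.restrFunctor U).IsRightAdjoint :=
      (H.isOpenMap.functor.sheafAdjunctionContinuous AddCommGrpCat.{u}
        (Opens.grothendieckTopology (TopCat.of U)) (Opens.grothendieckTopology Z)).isRightAdjoint
    infer_instance
  haveI := additive_comp_push (resMap f V) (CohTop.restrFunctor ((Opens.map f).obj V))
  obtain ⟨e⟩ := nonempty_rightDerived_comp_push (resMap f V) (CohTop.restrFunctor ((Opens.map f).obj V))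
    (fun Q hQ => by
      haveI := SiteBase.isFlasque_of_injective Q
      exact SiteBase.isFlasque_restr _ Q) p
  exact ⟨((SiteBase.rightDerivedCompIso (CohTop.push f) (CohTop.restrFunctor V) p).symm ≪≫
    SiteBase.rightDerivedCongr (restrPushIso f V) p ≪≫ e).app F⟩

end Groth.Agent.CTopNbd
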