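import Groth.Agent.CTopNbd.Lift
import Mathlib.CategoryTheory.Adjunction.Unique

/-! Units of inverse image adjunctions along embeddings, and compact separated subsets. -/

set_option autoImplicit false
set_option linter.unusedSectionVars false
set_option linter.style.haveILetI false

universe u

open CategoryTheory CategoryTheory.Limits Opposite TopologicalSpace Topology Filter

namespace Groth.Agent.CTopNbd

variable {A X : TopCat.{u}} {i : A ⟶ X}

theorem isIso_stalk_unit_adj (hi : IsInducing i) {L : CohTop.Ab X ⥤ CohTop.Ab A} (adj : L ⊣ CohTop.push i)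
    (F : CohTop.Ab X) (a : A) : IsIso ((ClosedEmb.stalkF (i a)).map (adj.unit.app F)) := by
  let adj₀ : CohTop.pull i ⊣ CohTop.push i := TopCat.Sheaf.pullbackPushforwardAdjunction AddCommGrpCat.{u} i
  haveI h₀ : IsIso ((ClosedEmb.stalkF (i a)).map (adj₀.unit.app F)) := ClosedEmb.isIso_stalk_unit hi F a
  rw [← Adjunction.unit_leftAdjointUniq_hom_app adj₀ adj F, Functor.map_comp]
  infer_instance

theorem locSurj_unit (hi : IsInducing i) {L : CohTop.Ab X ⥤ CohTop.Ab A} (adj : L ⊣ CohTop.push i)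
    (F : CohTop.Ab X) : LocSurj i (adj.unit.app F) :=
  locSurj_of_isIso_stalk i _ (isIso_stalk_unit_adj hi adj F)

theorem locInj_unit (hi : IsInducing i) {L : CohTop.Ab X ⥤ CohTop.Ab A} (adj : L ⊣ CohTop.push i)
    (F : CohTop.Ab X) : LocInj i (adj.unit.app F) :=
  locInj_of_isIso_stalk i _ (isIso_stalk_unit_adj hi adj F)

theorem rs_push_injective (G : CohTop.Ab A) {U V : Opens X} (h : V ≤ U) (hV : ∀ a, i a ∈ V) :
    Function.Injective (rs ((CohTop.push i).obj G) h) := by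
  intro x y hxy
  have key : ∀ z, rs G (show (Opens.map i).obj U ≤ (Opens.map i).obj V from fun a _ => hV a)
      (rs G (show (Opens.map i).obj V ≤ (Opens.map i).obj U from fun a ha => h ha) z) = z := fun z => by
    rw [rs_rs, rs_self]
  exact (key x).symm.trans ((congrArg _ hxy).trans (key y))

theorem rs_push_surjective (G : CohTop.Ab A) {U V : Opens X} (h : V ≤ U) (hV : ∀ a, i a ∈ V) :
    Function.Surjective (rs ((CohTop.push i).obj G) h) := fun y =>
  ⟨rs G (show (Opens.map i).obj U ≤ (Opens.map i).obj V from fun a _ => hV a) y,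
    (rs_rs G _ (show (Opens.map i).obj V ≤ (Opens.map i).obj U from fun a ha => h ha) y).trans (rs_self G _ y)⟩

/-- The inverse image of a flasque sheaf to a subspace is soft along a gluing family. -/
theorem soft_of_adj (hi : IsInducing i) {𝒞 : Set (Set A)} (hc : Ctx i 𝒞)
    {L : CohTop.Ab X ⥤ CohTop.Ab A} (adj : L ⊣ CohTop.push i) (F : CohTop.Ab X)
    [hF : TopCat.Sheaf.IsFlasque F] : Soft (X := A) id 𝒞 (L.obj F) := by
  intro C hC U hCU g
  obtain ⟨O, hO, hOU⟩ := hi.isOpen_iff.1 U.2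
  obtain rfl : (Opens.map i).obj ⟨O, hO⟩ = U := Opens.ext hOU
  obtain ⟨U₁, hU₁, hCU₁, f, hf⟩ := lift_near hc (adj.unit.app F) (locSurj_unit hi adj F)
    ((locInj_unit hi adj F).kerExt 𝒞) hC (U₀ := ⟨O, hO⟩) hCU g
  obtain ⟨fT, hfT⟩ := (AddCommGrpCat.epi_iff_surjective _).1 (hF.epi (homOfLE (le_top : U₁ ≤ ⊤)).op) f
  refine ⟨sa (adj.unit.app F) ⊤ fT, (Opens.map i).obj U₁, fun a ha => hU₁ ha, hCU₁, ?_⟩
  exact ((sa_rs (adj.unit.app F) (le_top : U₁ ≤ ⊤) fT).symm.trans (congrArg _ hfT)).trans hf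

end Groth.Agent.CTopNbd

namespace Groth.Agent.CTopNbd

section Compact

variable {A X : Type u} [TopologicalSpace A] [TopologicalSpace X]

theorem separatedNhds_of_isCompact {S T : Set X} (hS : IsCompact S) (hT : IsCompact T)
    (h : ∀ x ∈ S, ∀ y ∈ T, Disjoint (𝓝 x) (𝓝 y)) : SeparatedNhds S T :=
  separatedNhds_iff_disjoint.2
    (hS.disjoint_nhdsSet_left.2 fun x hx => hT.disjoint_nhdsSet_right.2 fun y hy => h x hx y hy)

theorem t2Space_of_sep {i : A → X} (hi : IsInducing i)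
    (hsep : ∀ a b, a ≠ b → Disjoint (𝓝 (i a)) (𝓝 (i b))) : T2Space A :=
  t2Space_iff_disjoint_nhds.2 fun a b hab => by
    show Disjoint (𝓝 a) (𝓝 b)
    rw [hi.nhds_eq_comap, hi.nhds_eq_comap]
    exact Filter.disjoint_comap (hsep a b hab)

/-- Closed subsets of a compact subspace with separated points. -/
theorem ctx_compact {X : TopCat.{u}} [CompactSpace A] {i : A → X} (hi : IsInducing i)
    (hsep : ∀ a b, a ≠ b → Disjoint (𝓝 (i a)) (𝓝 (i b))) : Ctx i {C | IsClosed C} where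
  isCompact C hC := hC.isCompact
  empty := isClosed_empty
  union C hC D hD := hC.union hD
  inter C hC D hD := hC.inter hD
  nhd C hC a ha O hO := by
    have hne : ∀ x ∈ (i ⁻¹' O)ᶜ, a ≠ x := fun x hx h => hx (h ▸ hO)
    obtain ⟨P, Q, hP, hQ, haP, hKQ, hPQ⟩ := separatedNhds_of_isCompact
      (isCompact_singleton (x := i a)) ((O.2.preimage hi.continuous).isClosed_compl.isCompact.image hi.continuous)
      (by
        rintro x hx y ⟨b, hb, rfl⟩
        obtain rfl : x = i a := hx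
        exact hsep a b (hne b hb))
    refine ⟨C ∩ (i ⁻¹' Q)ᶜ, hC.inter (hQ.preimage hi.continuous).isClosed_compl, ?_, fun x hx => ?_⟩
    · refine mem_nhdsWithin.2 ⟨i ⁻¹' P, hP.preimage hi.continuous, haP rfl, ?_⟩
      rintro x ⟨hx, hxC⟩
      exact ⟨hxC, fun hq => hPQ.le_bot ⟨hx, hq⟩⟩
    · by_contra h
      exact hx.2 (hKQ ⟨x, h, rfl⟩)
  sep C hC D hD U V E hCU hDV hE := by
    obtain ⟨P, Q, hP, hQ, hCP, hDQ, hPQ⟩ := separatedNhds_of_isCompact
      (((hC.inter (E.2.preimage hi.continuous).isClosed_compl).isCompact).image hi.continuous)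
      (((hD.inter (E.2.preimage hi.continuous).isClosed_compl).isCompact).image hi.continuous)
      (by
        rintro x ⟨a, ha, rfl⟩ y ⟨b, hb, rfl⟩
        exact hsep a b fun h => ha.2 (hE ⟨ha.1, h ▸ hb.1⟩))
    refine ⟨U ⊓ (⟨P, hP⟩ ⊔ E), V ⊓ (⟨Q, hQ⟩ ⊔ E), inf_le_left, inf_le_left, fun a ha => ⟨hCU ha, ?_⟩,
      fun a ha => ⟨hDV ha, ?_⟩, ?_⟩
    · by_cases h : i a ∈ E
      · exact Or.inr h
      · exact Or.inl (hCP ⟨a, ⟨ha, h⟩, rfl⟩)
    · by_cases h : i a ∈ E
      · exact Or.inr h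
      · exact Or.inl (hDQ ⟨a, ⟨ha, h⟩, rfl⟩)
    · rintro x ⟨⟨-, h₁ | h₁⟩, -, h₂ | h₂⟩
      · exact (hPQ.le_bot ⟨h₁, h₂⟩).elim
      all_goals first | exact h₁ | exact h₂

theorem ctx_compact_id {X : TopCat.{u}} [CompactSpace X] [T2Space X] :
    Ctx (A := X) (X := X) id {C | IsClosed C} :=
  ctx_compact IsInducing.id fun a b h => disjoint_nhds_nhds.2 h

theorem disjoint_nhds_of_sep {X : Type u} [TopologicalSpace X] {x y : X}
    (h : ∃ U V : Set X, IsOpen U ∧ IsOpen V ∧ x ∈ U ∧ y ∈ V ∧ Disjoint U V) : Disjoint (𝓝 x) (𝓝 y) := by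
  obtain ⟨U, V, hU, hV, hx, hy, hd⟩ := h
  exact Filter.disjoint_iff.2 ⟨U, hU.mem_nhds hx, V, hV.mem_nhds hy, hd⟩

end Compact

end Groth.Agent.CTopNbd
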